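import Groth.Prelude.Def_W4bk4git07Quot
import Groth.Agent.SGA3cLib.ActionPoints
import Mathlib.AlgebraicGeometry.AlgClosed.Basic
import Mathlib.AlgebraicGeometry.Morphisms.Smooth
import Mathlib.AlgebraicGeometry.Morphisms.Descent
import Mathlib.AlgebraicGeometry.Group.Smooth
import Mathlib.AlgebraicGeometry.Fiber

/-!
# Fibres of orbit maps are homogeneous, so smooth once smooth somewhere
-/

set_option autoImplicit false
set_option backward.isDefEq.respectTransparency.types false
set_option backward.isDefEq.respectTransparency false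

universe u

open CategoryTheory Limits AlgebraicGeometry MonoidalCategory CartesianMonoidalCategory MonObj GrpObj
open Groth.Agent.SGA3cLib

namespace Groth.Agent.GenSmooth29

/-- A point over an algebraically closed field lifts along a surjection locally of finite type. -/
theorem exists_lift_algClosedPoint {A B : Scheme.{u}} (f : A ⟶ B) [Surjective f] [LocallyOfFiniteType f]
    {Ω : Type u} [Field Ω] [IsAlgClosed Ω] (y : Spec (CommRingCat.of Ω) ⟶ B) :
    ∃ x : Spec (CommRingCat.of Ω) ⟶ A, x ≫ f = y := by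
  let p := pullback.snd f y
  haveI : Surjective p := inferInstance
  haveI : LocallyOfFiniteType p := inferInstance
  haveI : JacobsonSpace ↥(pullback f y) := LocallyOfFiniteType.jacobsonSpace p
  obtain ⟨z₀, -⟩ := p.surjective (IsLocalRing.closedPoint Ω)
  obtain ⟨z, -, hz⟩ := nonempty_inter_closedPoints (Z := (Set.univ : Set ↥(pullback f y))) ⟨z₀, trivial⟩
    isClosed_univ.isLocallyClosed
  exact ⟨pointOfClosedPoint p z hz ≫ pullback.fst f y,
    by rw [Category.assoc, pullback.condition, pointOfClosedPoint_comp_assoc]⟩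

variable {S : Scheme.{u}} {G X Y : Over S} [GrpObj G] {a : AlgGrp.Action G X} {φ : X ⟶ Y}

/-- A geometric fibre of an orbit map is smooth as soon as its smooth locus is nonempty. -/
theorem smooth_geomFibre (hinv : GIT.IsInvariant a φ) [Surjective (GIT.PsiY a φ hinv)]
    [LocallyOfFiniteType (GIT.PsiY a φ hinv)]
    {Ω : Type u} [Field Ω] [IsAlgClosed Ω] {Z : Scheme.{u}} (v : Spec (CommRingCat.of Ω) ⟶ Y.left)
    (pr : Z ⟶ X.left) (q : Z ⟶ Spec (CommRingCat.of Ω)) (hZ : IsPullback pr q φ.left v)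
    [LocallyOfFinitePresentation q] (hne : (q.smoothLocus : Set Z).Nonempty) : Smooth q := by
  let T : Over S := Over.mk (v ≫ Y.hom)
  let Zo : Over S := Over.mk (q ≫ v ≫ Y.hom)
  let p₁ : Zo ⟶ X := Over.homMk pr (by
    change pr ≫ X.hom = q ≫ v ≫ Y.hom
    rw [← Over.w φ, ← Category.assoc, hZ.w, Category.assoc])
  let p₂ : Zo ⟶ T := Over.homMk q rfl
  let vT : T ⟶ Y := Over.homMk v rfl
  have hp : p₁ ≫ φ = p₂ ≫ vT := Over.OverMorphism.ext hZ.w
  have hext : ∀ {U : Over S} (α β : U ⟶ Zo), α ≫ p₁ = β ≫ p₁ → α ≫ p₂ = β ≫ p₂ → α = β := fun α β h₁ h₂ =>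
    Over.OverMorphism.ext (hZ.hom_ext (congrArg CommaMorphism.left h₁) (congrArg CommaMorphism.left h₂))
  have hsmul : ∀ {U : Over S} (g : U ⟶ G) (x : U ⟶ X), smulPt a g x ≫ φ = x ≫ φ := fun g x => by
    rw [smulPt, Category.assoc, show a.act ≫ φ = snd G X ≫ φ from hinv, lift_snd_assoc]
  have hlift : ∀ g : T ⟶ G, ∃ α : Zo ⟶ Zo, α ≫ p₁ = smulPt a (p₂ ≫ g) p₁ ∧ α ≫ p₂ = p₂ := fun g => by
    have w : (smulPt a (p₂ ≫ g) p₁).left ≫ φ.left = q ≫ v := by
      rw [← Over.comp_left, hsmul, hp]; rfl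
    refine ⟨Over.homMk (hZ.lift _ _ w) ?_, Over.OverMorphism.ext (hZ.lift_fst _ _ _), Over.OverMorphism.ext (hZ.lift_snd _ _ _)⟩
    change hZ.lift _ _ w ≫ q ≫ v ≫ Y.hom = _
    rw [hZ.lift_snd_assoc]; rfl
  choose tr htr₁ htr₂ using hlift
  have hcomp : ∀ g h : T ⟶ G, tr g ≫ tr h = tr (h * g) := fun g h => by
    refine hext _ _ ?_ ?_
    · rw [Category.assoc, htr₁, comp_smulPt, ← Category.assoc, htr₂, htr₁, htr₁, MonObj.comp_mul, mul_smulPt]
    · rw [Category.assoc, htr₂, htr₂, htr₂]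
  have hone : tr 1 = 𝟙 Zo := hext _ _
    (by rw [htr₁, Category.id_comp, MonObj.comp_one, one_smulPt]) (by rw [htr₂, Category.id_comp])
  have htriso : ∀ g, IsIso (tr g) := fun g =>
    ⟨tr g⁻¹, by rw [hcomp, inv_mul_cancel, hone], by rw [hcomp, mul_inv_cancel, hone]⟩
  haveI : JacobsonSpace Z := LocallyOfFiniteType.jacobsonSpace q
  rw [← Scheme.Hom.smoothLocus_eq_top_iff]
  by_contra hne'
  obtain ⟨x, hxU, hx⟩ := nonempty_inter_closedPoints
    (Set.nonempty_compl.2 fun h => hne' (TopologicalSpace.Opens.ext h))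
    q.smoothLocus.2.isClosed_compl.isLocallyClosed
  obtain ⟨x₀, hx₀U, hx₀⟩ := nonempty_inter_closedPoints hne q.smoothLocus.2.isLocallyClosed
  let pt : ∀ z : Z, IsClosed ({z} : Set Z) → (T ⟶ Zo) := fun z hz => Over.homMk (pointOfClosedPoint q z hz)
    (pointOfClosedPoint_comp_assoc q z hz _)
  have hpt₂ : ∀ z hz, pt z hz ≫ p₂ = 𝟙 T := fun z hz => Over.OverMorphism.ext (pointOfClosedPoint_comp q z hz)
  let u := pt x hx ≫ p₁
  let u₀ := pt x₀ hx₀ ≫ p₁
  have huu : u₀ ≫ φ = u ≫ φ := by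
    simp only [u, u₀, Category.assoc, hp, reassoc_of% hpt₂]
  obtain ⟨w, hw⟩ := exists_lift_algClosedPoint (GIT.PsiY a φ hinv)
    (pullback.lift u₀.left u.left (congrArg CommaMorphism.left huu))
  have hw₁ : w ≫ a.act.left = u₀.left := by
    have := congrArg (· ≫ pullback.fst φ.left φ.left) hw
    simpa [GIT.PsiY] using this
  have hw₂ : w ≫ (snd G X).left = u.left := by
    have := congrArg (· ≫ pullback.snd φ.left φ.left) hw
    simpa [GIT.PsiY] using this
  let wT : T ⟶ G ⊗ X := Over.homMk w (by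
    rw [← Over.w (snd G X), reassoc_of% hw₂, Over.w u])
  have hwT₁ : wT ≫ a.act = u₀ := Over.OverMorphism.ext hw₁
  have hwT₂ : wT ≫ snd G X = u := Over.OverMorphism.ext hw₂
  let σ : T ⟶ G := wT ≫ fst G X
  have hσ : smulPt a σ u = u₀ := by
    have : wT = lift σ u := CartesianMonoidalCategory.hom_ext _ _ (by simp [σ]) (by simp [hwT₂])
    rw [smulPt, ← this, hwT₁]
  have hmove : pt x hx ≫ tr σ = pt x₀ hx₀ := by
    refine hext _ _ ?_ ?_
    · rw [Category.assoc, htr₁, comp_smulPt, ← Category.assoc, hpt₂, Category.id_comp]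
      exact hσ
    · rw [Category.assoc, htr₂, hpt₂, hpt₂]
  have h1 : (tr σ).left x = x₀ := by
    have := congrArg (fun m => m.left (IsLocalRing.closedPoint Ω)) hmove
    have h3 : ((tr σ).left) (pointOfClosedPoint q x hx (IsLocalRing.closedPoint Ω)) =
        pointOfClosedPoint q x₀ hx₀ (IsLocalRing.closedPoint Ω) := this
    rwa [pointOfClosedPoint_apply, pointOfClosedPoint_apply] at h3
  haveI := htriso σ
  haveI : IsIso (tr σ).left := inferInstanceAs (IsIso ((Over.forget _).map (tr σ)))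
  have h2 : (tr σ).left ⁻¹ᵁ q.smoothLocus = q.smoothLocus := by
    rw [Scheme.Hom.preimage_smoothLocus_eq]
    congr 1
    exact congrArg CommaMorphism.left (htr₂ σ)
  exact hxU (h2.le (show (tr σ).left x ∈ q.smoothLocus from h1 ▸ hx₀U))

/-- A fibre of an orbit map is smooth as soon as its smooth locus is nonempty. -/
theorem smooth_fibre (hinv : GIT.IsInvariant a φ) [Surjective (GIT.PsiY a φ hinv)]
    [LocallyOfFiniteType (GIT.PsiY a φ hinv)] [LocallyOfFiniteType φ.left] (y : Y.left)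
    [LocallyOfFinitePresentation (φ.left.fiberToSpecResidueField y)]
    (hne : ((φ.left.fiberToSpecResidueField y).smoothLocus : Set (φ.left.fiber y)).Nonempty) :
    Smooth (φ.left.fiberToSpecResidueField y) := by
  let f := φ.left.fiberToSpecResidueField y
  let κ := Y.left.residueField y
  let Ω : Type u := AlgebraicClosure κ
  let g : Spec (CommRingCat.of Ω) ⟶ Spec κ := Spec.map (CommRingCat.ofHom <| algebraMap κ Ω)
  apply MorphismProperty.of_pullback_snd_of_descendsAlong
    (Q := @Surjective ⊓ @Flat ⊓ @QuasiCompact) (g := g)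
  · refine ⟨⟨⟨fun z => ⟨IsLocalRing.closedPoint Ω, Subsingleton.elim _ _⟩⟩, ?_⟩, inferInstance⟩
    exact Flat.SpecMap_iff.2 (RingHom.flat_algebraMap_iff.2 inferInstance)
  · refine smooth_geomFibre hinv (g ≫ Y.left.fromSpecResidueField y) (pullback.fst f g ≫ φ.left.fiberι y)
      (pullback.snd f g) ((IsPullback.of_hasPullback f g).paste_horiz (IsPullback.of_hasPullback _ _)) ?_
    let U := f.smoothLocus
    have hU : Smooth (U.ι ≫ f) := by
      rw [← Scheme.Hom.smoothLocus_eq_top_iff, ← Scheme.Hom.preimage_smoothLocus_eq, eq_top_iff]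
      exact fun z _ => z.2
    let m : pullback (U.ι ≫ f) g ⟶ pullback f g :=
      pullback.map _ _ f g U.ι (𝟙 _) (𝟙 _) (Category.comp_id _) (by simp)
    have : IsOpenImmersion m := inferInstance
    have hm : Smooth (m ≫ pullback.snd f g) := by
      simp only [m, pullback.lift_snd, Category.comp_id]
      infer_instance
    obtain ⟨x, hx⟩ := hne
    haveI : Surjective g := ⟨fun z => ⟨IsLocalRing.closedPoint Ω, Subsingleton.elim _ _⟩⟩
    have : Surjective (pullback.fst (U.ι ≫ f) g) :=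
      MorphismProperty.pullback_fst (P := @Surjective) _ _ inferInstance
    obtain ⟨z, -⟩ := (pullback.fst (U.ι ≫ f) g).surjective ⟨x, hx⟩
    refine ⟨m z, ?_⟩
    show z ∈ m ⁻¹ᵁ (pullback.snd f g).smoothLocus
    rw [Scheme.Hom.preimage_smoothLocus_eq, Scheme.Hom.smoothLocus_eq_top]
    trivial

end Groth.Agent.GenSmooth29
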