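import Groth.Agent.EGA41Lib.PSeparable

/-!
# Separability of a field extension cut out by invariants

If `E ⊆ F` is the equalizer of a family of pairs of embeddings `F → L i`, each `L i` being separable
over `F` through the first one, then `F / E` satisfies Mac Lane's criterion.
-/

set_option autoImplicit false

universe u

open TensorProduct

namespace Groth.Agent.GenSmooth29

open Groth.Agent.EGA41Lib.PB

variable (p : ℕ) [hp : Fact p.Prime]

/-- A separable extension creates no new `p`-linear relations. -/
theorem eq_zero_of_sum_pow_eq_zero {F L : Type u} [Field F] [Field L] [Algebra F L] [CharP F p]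
    [Algebra.IsGeometricallyReduced F L] {ι : Type u} [Fintype ι] (c : ι → F)
    (h : ∀ x : ι → F, ∑ j, c j * x j ^ p = 0 → x = 0) (y : ι → L)
    (hy : ∑ j, algebraMap F L (c j) * y j ^ p = 0) : y = 0 := by
  classical
  let Ω := AlgebraicClosure F
  haveI : CharP L p := charP_of_injective_algebraMap (algebraMap F L).injective p
  haveI : CharP Ω p := charP_of_injective_algebraMap (algebraMap F Ω).injective p
  choose r hr using fun j => IsAlgClosed.exists_pow_nat_eq (algebraMap F Ω (c j)) hp.out.pos
  have hrl : LinearIndependent F r := by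
    rw [Fintype.linearIndependent_iff]
    intro g hg j
    refine congrFun (h g ((algebraMap F Ω).injective ?_)) j
    rw [map_sum, map_zero]
    calc ∑ i, algebraMap F Ω (c i * g i ^ p) = (∑ i, g i • r i) ^ p := by
          rw [sum_pow_char]
          refine Finset.sum_congr rfl fun i _ => ?_
          rw [Algebra.smul_def, mul_pow, hr, map_mul, map_pow, mul_comm]
      _ = 0 := by rw [hg, zero_pow hp.out.ne_zero]
  haveI : IsReduced (L ⊗[F] Ω) :=
    isReduced_of_injective (Algebra.TensorProduct.comm F L Ω).toRingHom (AlgEquiv.injective _)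
  haveI : CharP (L ⊗[F] Ω) p :=
    charP_of_injective_ringHom (f := (Algebra.TensorProduct.includeLeft : L →ₐ[F] L ⊗[F] Ω).toRingHom)
      (Algebra.TensorProduct.includeLeft_injective (RingHom.injective _)) p
  let z : L ⊗[F] Ω := ∑ j, y j ⊗ₜ[F] r j
  have hz : z ^ p = 0 := by
    rw [sum_pow_char]
    calc ∑ j, (y j ⊗ₜ[F] r j) ^ p = ∑ j, (algebraMap F L (c j) * y j ^ p) ⊗ₜ[F] (1 : Ω) := by
          refine Finset.sum_congr rfl fun j _ => ?_
          rw [Algebra.TensorProduct.tmul_pow, hr, ← Algebra.smul_def, Algebra.algebraMap_eq_smul_one,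
            TensorProduct.smul_tmul]
      _ = 0 := by rw [← TensorProduct.sum_tmul, hy, TensorProduct.zero_tmul]
  funext j
  exact tmul_sum_eq_zero hrl Finset.univ y (IsReduced.eq_zero _ ⟨p, hz⟩) j (Finset.mem_univ j)

/-- The descent form of separability of the field of invariants. -/
theorem macLane_of_equalizer {E F : Type u} [Field E] [Field F] [Algebra E F] [CharP F p]
    {I : Type u} (L : I → Type u) [∀ i, Field (L i)] (φ ψ : ∀ i, F →+* L i)
    (hsep : ∀ i, @Algebra.IsGeometricallyReduced F (L i) _ _ (φ i).toAlgebra)
    (hE : ∀ i e, φ i (algebraMap E F e) = ψ i (algebraMap E F e))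
    (hinv : ∀ f, (∀ i, φ i f = ψ i f) → f ∈ Set.range (algebraMap E F)) : MacLane p E F := by
  classical
  intro κ s hs
  rw [linearIndependent_iff']
  intro t c hc i hi
  by_contra hci
  let c' : t → E := fun j => c j
  let WE : Submodule E (t → E) :=
    { carrier := {w | ∑ j, c' j * w j ^ p = 0}
      add_mem' := fun {v w} hv hw => by
        simp only [Set.mem_setOf_eq, Pi.add_apply] at hv hw ⊢
        haveI : CharP E p := (algebraMap E F).charP (algebraMap E F).injective p
        calc ∑ j, c' j * (v j + w j) ^ p = ∑ j, c' j * v j ^ p + ∑ j, c' j * w j ^ p := by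
              rw [← Finset.sum_add_distrib]
              exact Finset.sum_congr rfl fun j _ => by rw [add_pow_char, mul_add]
          _ = 0 := by rw [hv, hw, add_zero]
      zero_mem' := by simp [hp.out.ne_zero]
      smul_mem' := fun r w hw => by
        simp only [Set.mem_setOf_eq, Pi.smul_apply, smul_eq_mul] at hw ⊢
        rw [← mul_zero (r ^ p), ← hw, Finset.mul_sum]
        exact Finset.sum_congr rfl fun j _ => by ring }
  have hlt : WE < ⊤ := lt_top_iff_ne_top.2 fun h => hci (by
    have h1 : (Pi.single ⟨i, hi⟩ 1 : t → E) ∈ WE := h ▸ Submodule.mem_top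
    change ∑ j, c' j * (Pi.single ⟨i, hi⟩ 1 : t → E) j ^ p = 0 at h1
    rw [Finset.sum_eq_single_of_mem ⟨i, hi⟩ (Finset.mem_univ _)
      (fun j _ hj => by rw [Pi.single_eq_of_ne hj, zero_pow hp.out.ne_zero, mul_zero])] at h1
    simpa using h1)
  obtain ⟨a, ha0, ha⟩ := Submodule.exists_le_ker_of_lt_top WE hlt
  let α : t → E := fun j => a (Pi.single j 1)
  have haw : ∀ w : t → E, a w = ∑ j, w j * α j := fun w => by
    conv_lhs => rw [pi_eq_sum_univ' w, map_sum]
    exact Finset.sum_congr rfl fun j _ => by rw [map_smul, smul_eq_mul]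
  have key : ∀ (S : Finset t) (x : t → F), (∀ j ∉ S, x j = 0) →
      ∑ j, algebraMap E F (c' j) * x j ^ p = 0 → ∑ j, x j * algebraMap E F (α j) = 0 := by
    intro S
    induction S using Finset.strongInduction with
    | H S ih =>
      intro x hxS hx
      by_cases hzero : ∃ j ∈ S, x j = 0
      · obtain ⟨j, hj, hxj⟩ := hzero
        refine ih _ (Finset.erase_ssubset hj) x (fun l hl => ?_) hx
        by_cases hlj : l = j
        · exact hlj ▸ hxj
        · exact hxS l fun h => hl (Finset.mem_erase.2 ⟨hlj, h⟩)
      push_neg at hzero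
      obtain rfl | ⟨i₀, hi₀⟩ := S.eq_empty_or_nonempty
      · simp [fun j => hxS j (Finset.notMem_empty j)]
      let x' : t → F := fun j => (x i₀)⁻¹ * x j
      have hx' : ∑ j, algebraMap E F (c' j) * x' j ^ p = 0 := by
        rw [← mul_zero ((x i₀)⁻¹ ^ p), ← hx, Finset.mul_sum]
        exact Finset.sum_congr rfl fun j _ => by simp only [x']; ring
      by_cases hxinv : ∀ j, x' j ∈ Set.range (algebraMap E F)
      · choose w hw using hxinv
        have hwE : w ∈ WE := (algebraMap E F).injective (by
          rw [map_sum, map_zero, ← hx']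
          exact Finset.sum_congr rfl fun j _ => by rw [map_mul, map_pow, hw])
        have h2 : ∑ j, x' j * algebraMap E F (α j) = 0 := by
          have h3 := congrArg (algebraMap E F) ((haw w).symm.trans (ha hwE))
          rw [map_sum, map_zero] at h3
          rw [← h3]
          exact Finset.sum_congr rfl fun j _ => by rw [map_mul, hw]
        rw [← mul_zero (x i₀), ← h2, Finset.mul_sum]
        exact Finset.sum_congr rfl fun j _ => by
          simp only [x']
          field_simp [hzero i₀ hi₀]
      · push_neg at hxinv
        obtain ⟨l, hl⟩ := hxinv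
        obtain ⟨k, hk⟩ : ∃ k, φ k (x' l) ≠ ψ k (x' l) := not_forall.1 fun h => hl (hinv _ h)
        letI : Algebra F (L k) := (φ k).toAlgebra
        haveI := hsep k
        haveI : CharP (L k) p := charP_of_injective_algebraMap (algebraMap F (L k)).injective p
        let T := S.erase i₀
        let d : t → L k := fun j => φ k (x' j) - ψ k (x' j)
        have hdT : ∀ j ∉ T, d j = 0 := fun j hj => by
          by_cases hji : j = i₀
          · subst hji
            have h1 : x' j = 1 := inv_mul_cancel₀ (hzero j hi₀)
            simp only [d, h1, map_one, sub_self]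
          · have : j ∉ S := fun h => hj (Finset.mem_erase.2 ⟨hji, h⟩)
            simp [d, x', hxS j this]
        have hd : ∑ j, φ k (algebraMap E F (c' j)) * d j ^ p = 0 := by
          have h1 := congrArg (φ k) hx'
          have h2 := congrArg (ψ k) hx'
          simp only [map_sum, map_zero, map_mul, map_pow] at h1 h2
          rw [← sub_self (0 : L k)]
          conv_rhs => arg 1; rw [← h1]
          conv_rhs => arg 2; rw [← h2]
          rw [← Finset.sum_sub_distrib]
          exact Finset.sum_congr rfl fun j _ => by
            rw [← hE]; simp only [d]; rw [sub_pow_char, mul_sub]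
        obtain ⟨z, hz, hz0⟩ : ∃ z : T → F, ∑ j, algebraMap E F (c' j.1) * z j ^ p = 0 ∧ z ≠ 0 := by
          by_contra hno
          push_neg at hno
          have h0 := eq_zero_of_sum_pow_eq_zero p (fun j : T => algebraMap E F (c' j.1)) hno
            (fun j : T => d j.1) (by
              rw [← hd]
              refine (Finset.sum_coe_sort T (fun j => φ k (algebraMap E F (c' j)) * d j ^ p)).trans ?_
              exact Finset.sum_subset (Finset.subset_univ _)
                fun j _ hj => by rw [hdT j hj, zero_pow hp.out.ne_zero, mul_zero])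
          by_cases hlT : l ∈ T
          · exact hk (sub_eq_zero.1 (congrFun h0 ⟨l, hlT⟩))
          · exact hk (sub_eq_zero.1 (hdT l hlT))
        let z' : t → F := fun j => if h : j ∈ T then z ⟨j, h⟩ else 0
        have hz'T : ∀ j ∉ T, z' j = 0 := fun j hj => dif_neg hj
        have hz' : ∑ j, algebraMap E F (c' j) * z' j ^ p = 0 := by
          rw [← Finset.sum_subset (Finset.subset_univ T)
            fun j _ hj => by rw [hz'T j hj, zero_pow hp.out.ne_zero, mul_zero], ← hz,
            ← Finset.sum_coe_sort T]
          exact Finset.sum_congr rfl fun j _ => by simp only [z', dif_pos j.2]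
        obtain ⟨j₀, hj₀⟩ : ∃ j, z j ≠ 0 := Function.ne_iff.1 hz0
        have hj₀' : z' j₀.1 = z j₀ := dif_pos j₀.2
        have hzsum : ∑ j, z' j * algebraMap E F (α j) = 0 := ih T (Finset.erase_ssubset hi₀) z' hz'T hz'
        let μ : F := x j₀.1 / z j₀
        have hrest := ih _ (Finset.erase_ssubset (Finset.mem_of_mem_erase j₀.2))
          (fun j => x j - μ * z' j) (fun j hj => by
            by_cases hjj : j = j₀.1
            · subst hjj
              rw [hj₀']; simp only [μ]; rw [div_mul_cancel₀ _ hj₀, sub_self]
            · have hjS : j ∉ S := fun h => hj (Finset.mem_erase.2 ⟨hjj, h⟩)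
              rw [hxS j hjS, hz'T j fun h => hjS (Finset.mem_of_mem_erase h)]; ring) (by
            rw [← sub_self (0 : F)]
            conv_rhs => arg 1; rw [← hx]
            conv_rhs => arg 2; rw [← mul_zero (μ ^ p), ← hz', Finset.mul_sum]
            rw [← Finset.sum_sub_distrib]
            exact Finset.sum_congr rfl fun j _ => by rw [sub_pow_char]; ring)
        calc ∑ j, x j * algebraMap E F (α j)
            = ∑ j, (x j - μ * z' j) * algebraMap E F (α j) + μ * ∑ j, z' j * algebraMap E F (α j) := by
              rw [Finset.mul_sum, ← Finset.sum_add_distrib]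
              exact Finset.sum_congr rfl fun j _ => by ring
          _ = 0 := by rw [hrest, hzsum, mul_zero, add_zero]
  have hsum := key Finset.univ (fun j => s j.1) (fun j hj => absurd (Finset.mem_univ j) hj) (by
    rw [← hc, ← Finset.sum_coe_sort t]
    exact Finset.sum_congr rfl fun j _ => by rw [Algebra.smul_def])
  have hα := Fintype.linearIndependent_iff.1 (hs.comp ((↑) : t → κ) Subtype.val_injective) α (by
    rw [← hsum]
    exact Finset.sum_congr rfl fun j _ => by rw [Algebra.smul_def, mul_comm]; rfl)
  exact ha0 (LinearMap.ext fun w => by simp [haw w, hα])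

end Groth.Agent.GenSmooth29
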