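import Groth.Prelude.Def_W4bk4git07Quot
import Groth.Agent.GenSmooth29.MacLane
import Groth.Agent.EGA41Lib.FieldSeparableSmooth
import Groth.Agent.AbSchLib.SmoothReduced
import Groth.Agent.AlgGrpLib.ActionShear
import Groth.Agent.GITQuot.Geom
import Mathlib.AlgebraicGeometry.FunctionField
import Mathlib.AlgebraicGeometry.Morphisms.Smooth
import Mathlib.RingTheory.Flat.FaithfullyFlat.Algebra
import Mathlib.RingTheory.Ideal.MinimalPrime.Basic

/-!
# Invariant rational functions of a geometric quotient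

For an action of a smooth group on an integral scheme with geometric quotient `φ : X ⟶ Y`, a rational
function with equal pull-backs along the action and the projection at all generic points comes from `Y`;
hence the extension of function fields is separable.
-/

set_option autoImplicit false
set_option backward.isDefEq.respectTransparency.types false
set_option backward.isDefEq.respectTransparency false

universe u

open CategoryTheory Limits AlgebraicGeometry MonoidalCategory CartesianMonoidalCategory TopologicalSpace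

namespace Groth.Agent.GenSmooth29

/-- A point without proper generalisation. -/
def IsGen {P : Scheme.{u}} (w : P) : Prop := ∀ y, y ⤳ w → y = w

theorem isField_stalk_of_isGen {P : Scheme.{u}} [IsReduced P] {w : P} (h : IsGen w) :
    IsField (P.presheaf.stalk w) := by
  refine PrimeSpectrum.subsingleton_iff_isField_of_isReduced.1 ⟨fun a b => ?_⟩
  refine (P.fromSpecStalk w).isEmbedding.injective ?_
  have : ∀ c, P.fromSpecStalk w c = w := fun c =>
    h _ (by
      have : P.fromSpecStalk w c ∈ Set.range (P.fromSpecStalk w) := ⟨c, rfl⟩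
      rwa [Scheme.range_fromSpecStalk] at this)
  exact (this a).trans (this b).symm

/-- Over every prime of a local ring of a scheme lies a point without proper generalisation. -/
theorem exists_isGen_comap_le {P : Scheme.{u}} {w : P} (r : Ideal (P.presheaf.stalk w)) [r.IsPrime] :
    ∃ (w₀ : P) (hw : w₀ ⤳ w), IsGen w₀ ∧
      Ideal.comap (P.presheaf.stalkSpecializes hw).hom (IsLocalRing.maximalIdeal (P.presheaf.stalk w₀)) ≤ r := by
  obtain ⟨q, hq, hqr⟩ := Ideal.exists_minimalPrimes_le (I := ⊥) (bot_le (a := r))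
  let qp : PrimeSpectrum (P.presheaf.stalk w) := ⟨q, hq.1.1⟩
  let w₀ : P := P.fromSpecStalk w qp
  have hw : w₀ ⤳ w := by
    have : w₀ ∈ Set.range (P.fromSpecStalk w) := ⟨qp, rfl⟩
    rwa [Scheme.range_fromSpecStalk] at this
  refine ⟨w₀, hw, fun y hy => ?_, ?_⟩
  · obtain ⟨q', hq'⟩ : y ∈ Set.range (P.fromSpecStalk w) := by
      rw [Scheme.range_fromSpecStalk]; exact hy.trans hw
    have h1 : q' ⤳ qp := (P.fromSpecStalk w).isEmbedding.toIsInducing.specializes_iff.1 (hq' ▸ hy)
    have h2 : q'.asIdeal ≤ q := (PrimeSpectrum.le_iff_specializes q' qp).2 h1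
    have h3 : q' = qp := PrimeSpectrum.ext (le_antisymm h2 (hq.2 ⟨q'.2, bot_le⟩ h2))
    rw [← hq', h3]
  · have h1 : Spec.map (P.presheaf.stalkSpecializes hw) (IsLocalRing.closedPoint (P.presheaf.stalk w₀)) = qp := by
      refine (P.fromSpecStalk w).isEmbedding.injective ?_
      change _ = w₀
      rw [← Scheme.Hom.comp_apply, Scheme.SpecMap_stalkSpecializes_fromSpecStalk]
      exact Scheme.fromSpecStalk_closedPoint
    exact (congrArg PrimeSpectrum.asIdeal h1).le.trans hqr

theorem exists_isGen {P : Scheme.{u}} (w : P) : ∃ w₀, w₀ ⤳ w ∧ IsGen w₀ := by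
  obtain ⟨w₀, hw, h, -⟩ := exists_isGen_comap_le (IsLocalRing.maximalIdeal (P.presheaf.stalk w))
  exact ⟨w₀, hw, h⟩

/-- Germs on a reduced scheme are determined at the generic points. -/
theorem eq_of_forall_isGen {P : Scheme.{u}} [IsReduced P] {w : P} (a b : P.presheaf.stalk w)
    (h : ∀ w₀ (hw : w₀ ⤳ w), IsGen w₀ → P.presheaf.stalkSpecializes hw a = P.presheaf.stalkSpecializes hw b) :
    a = b := by
  refine sub_eq_zero.1 (IsReduced.eq_zero _ (nilpotent_iff_mem_prime.2 fun r hr => ?_))
  obtain ⟨w₀, hw, hgen, hle⟩ := exists_isGen_comap_le r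
  refine hle ?_
  rw [Ideal.mem_comap, map_sub, h w₀ hw hgen, sub_self]
  exact zero_mem _

variable {P X : Scheme.{u}} [IsIntegral X]

/-- A flat morphism sends generic points to the generic point. -/
theorem IsGen.map_eq (g : P ⟶ X) [Flat g] {w₀ : P} (h : IsGen w₀) : g w₀ = genericPoint X := by
  obtain ⟨y, hy, hgy⟩ := Flat.generalizingMap g ((genericPoint_spec X).specializes (trivial : g w₀ ∈ Set.univ))
  rw [← h y hy, hgy]

/-- Pull-back of rational functions to a point over the generic point. -/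
noncomputable def gmap (g : P ⟶ X) (w₀ : P) (h : g w₀ = genericPoint X) :
    X.functionField ⟶ P.presheaf.stalk w₀ :=
  X.presheaf.stalkSpecializes (specializes_of_eq h) ≫ g.stalkMap w₀

theorem gmap_germ (g : P ⟶ X) (w₀ : P) (h : g w₀ = genericPoint X) (U : X.Opens) (hU : genericPoint X ∈ U)
    (s : Γ(X, U)) : gmap g w₀ h (X.presheaf.germ U (genericPoint X) hU s) =
      P.presheaf.germ (g ⁻¹ᵁ U) w₀ (show g w₀ ∈ U from h ▸ hU) (g.app U s) := by
  rw [gmap, CommRingCat.comp_apply, TopCat.Presheaf.germ_stalkSpecializes_apply]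
  exact Scheme.Hom.germ_stalkMap_apply g U w₀ _ s

theorem gmap_algebraMap (g : P ⟶ X) (w₀ : P) (h : g w₀ = genericPoint X) {w : P} (hw : w₀ ⤳ w)
    (z : X.presheaf.stalk (g w)) :
    gmap g w₀ h (algebraMap (X.presheaf.stalk (g w)) X.functionField z) =
      P.presheaf.stalkSpecializes hw (g.stalkMap w z) := by
  rw [← Scheme.Hom.stalkSpecializes_stalkMap_apply g w₀ w hw z, gmap, CommRingCat.comp_apply]
  congr 1
  exact TopCat.Presheaf.stalkSpecializes_comp_apply _ _ _ _

theorem formallySmooth_gmap (g : P ⟶ X) [Smooth g] (w₀ : P) (h : g w₀ = genericPoint X) :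
    (gmap g w₀ h).hom.FormallySmooth := by
  haveI : IsIso (X.presheaf.stalkSpecializes (specializes_of_eq h)) :=
    (X.presheaf.stalkCongr (Inseparable.of_eq h)).isIso_inv
  have h1 : w₀ ∈ g.smoothLocus := by rw [Scheme.Hom.smoothLocus_eq_top]; trivial
  exact (RingHom.FormallySmooth.respectsIso.cancel_left_isIso _ (g.stalkMap w₀)).2 h1

theorem germ_app_congr {P Y : Scheme.{u}} {f g : P ⟶ Y} (e : f = g) (V : Y.Opens) (w : P) (hf : f w ∈ V)
    (hg : g w ∈ V) (t : Γ(Y, V)) :
    P.presheaf.germ (f ⁻¹ᵁ V) w hf (f.app V t) = P.presheaf.germ (g ⁻¹ᵁ V) w hg (g.app V t) := by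
  subst e; rfl

section Quot

variable {S : Scheme.{u}} {G X Y : Over S} [GrpObj G] [Smooth G.hom] [IsIntegral X.left]

theorem smooth_snd : Smooth (snd G X).left :=
  MorphismProperty.of_isPullback (P := @Smooth) (IsPullback.of_hasPullback G.hom X.hom) inferInstance

variable {a : AlgGrp.Action G X} {φ : X ⟶ Y}

/-- An invariant rational function comes from the quotient. -/
theorem exists_eq_stalkMap_of_invariant (hφ : GIT.IsGeomQuot a φ) (f : X.left.functionField)
    (hf : ∀ w₀ (h₁ : (snd G X).left w₀ = genericPoint X.left) (h₂ : a.act.left w₀ = genericPoint X.left),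
      IsGen w₀ → gmap (snd G X).left w₀ h₁ f = gmap a.act.left w₀ h₂ f) :
    f ∈ Set.range (φ.left.stalkMap (genericPoint X.left)) := by
  haveI : Smooth (snd G X).left := smooth_snd
  haveI : Smooth a.act.left := AlgGrpLib.act_of_hom a @Smooth inferInstance
  haveI : IsReduced (G ⊗ X).left := AbSchLib.isReduced_of_smooth (snd G X).left
  let η := genericPoint X.left
  let D : Set X.left := {x | f ∈ Set.range (algebraMap (X.left.presheaf.stalk x) X.left.functionField)}
  -- regularity is stable under the action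
  have hsat : ∀ w : ↥(G ⊗ X).left, a.act.left w ∈ D → (snd G X).left w ∈ D := by
    rintro w ⟨c, hc⟩
    let p := (snd G X).left
    obtain ⟨n, d, hd, hnd⟩ : ∃ n d, d ≠ 0 ∧
        f * algebraMap (X.left.presheaf.stalk (p w)) X.left.functionField d = algebraMap _ _ n := by
      obtain ⟨⟨n, d⟩, hnd⟩ := IsLocalization.surj (nonZeroDivisors (X.left.presheaf.stalk (p w))) f
      exact ⟨n, d.1, nonZeroDivisors.ne_zero d.2, hnd⟩
    have heq : p.stalkMap w n = a.act.left.stalkMap w c * p.stalkMap w d :=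
      eq_of_forall_isGen _ _ fun w₀ hw hgen => by
        rw [← gmap_algebraMap p w₀ (hgen.map_eq p) hw, ← hnd, map_mul, map_mul,
          gmap_algebraMap p w₀ (hgen.map_eq p) hw, hf w₀ _ (hgen.map_eq a.act.left) hgen, ← hc,
          gmap_algebraMap a.act.left w₀ (hgen.map_eq a.act.left) hw]
    letI := (p.stalkMap w).hom.toAlgebra
    haveI : Module.Flat (X.left.presheaf.stalk (p w)) ((G ⊗ X).left.presheaf.stalk w) := Flat.stalkMap p w
    haveI : IsLocalHom (algebraMap (X.left.presheaf.stalk (p w)) ((G ⊗ X).left.presheaf.stalk w)) :=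
      inferInstanceAs (IsLocalHom (p.stalkMap w).hom)
    haveI := Module.FaithfullyFlat.of_flat_of_isLocalHom (A := X.left.presheaf.stalk (p w))
      (B := (G ⊗ X).left.presheaf.stalk w)
    have hmem : n ∈ Ideal.span {d} := by
      rw [← Ideal.comap_map_eq_self_of_faithfullyFlat (B := (G ⊗ X).left.presheaf.stalk w) (Ideal.span {d}),
        Ideal.mem_comap, Ideal.map_span, Set.image_singleton, Ideal.mem_span_singleton']
      exact ⟨_, heq.symm⟩
    obtain ⟨e, rfl⟩ := Ideal.mem_span_singleton'.1 hmem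
    refine ⟨e, mul_right_cancel₀ (fun h0 => hd (IsFractionRing.injective _ _ (h0.trans (map_zero _).symm))) ?_⟩
    rw [hnd, map_mul]
  -- regularity is open
  have hloc : ∀ x ∈ D, ∃ (U : X.left.Opens) (_ : x ∈ U) (hη : η ∈ U) (s : Γ(X.left, U)),
      X.left.presheaf.germ U η hη s = f ∧ (U : Set X.left) ⊆ D := by
    rintro x ⟨c, hc⟩
    obtain ⟨U, hx, s, rfl⟩ := X.left.presheaf.exists_germ_eq c
    have hsp : ∀ y ∈ U, η ∈ U ∧ η ⤳ y := fun y hy =>
      have h := (genericPoint_spec X.left).specializes (trivial : y ∈ Set.univ)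
      ⟨h.mem_open U.isOpen hy, h⟩
    have hgerm : X.left.presheaf.germ U η (hsp x hx).1 s = f := by
      rw [← hc]
      exact (TopCat.Presheaf.germ_stalkSpecializes_apply _ hx _ s).symm
    refine ⟨U, hx, (hsp x hx).1, s, hgerm, fun y hy => ⟨X.left.presheaf.germ U y hy s, ?_⟩⟩
    rw [← hgerm]
    exact TopCat.Presheaf.germ_stalkSpecializes_apply _ hy _ s
  have hDopen : IsOpen D := isOpen_iff_forall_mem_open.2 fun x hx => by
    obtain ⟨U, hxU, -, -, -, hUD⟩ := hloc x hx
    exact ⟨U, hUD, U.isOpen, hxU⟩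
  have hηD : η ∈ D := ⟨f, by
    change X.left.presheaf.stalkSpecializes _ f = f
    rw [TopCat.Presheaf.stalkSpecializes_refl]; rfl⟩
  have hpre : φ.left.base ⁻¹' (φ.left.base '' D) = D := by
    refine Set.Subset.antisymm ?_ (Set.subset_preimage_image _ _)
    rintro x' ⟨x, hx, hxx'⟩
    obtain ⟨z, hz₁, hz₂⟩ := Scheme.Pullback.exists_preimage_pullback (f := φ.left) (g := φ.left) x x' hxx'
    obtain ⟨w, rfl⟩ := hφ.orbit z
    have h1 : a.act.left w = x := by
      rw [← hz₁, ← Scheme.Hom.comp_apply]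
      simp [GIT.PsiY]
    have h2 : (snd G X).left w = x' := by
      rw [← hz₂, ← Scheme.Hom.comp_apply]
      simp [GIT.PsiY]
    exact h2 ▸ hsat w (h1.symm ▸ hx)
  let V : Y.left.Opens := ⟨φ.left.base '' D, (GITQuot.isQuotientMap hφ).isOpen_preimage.1 (hpre.symm ▸ hDopen)⟩
  let W : X.left.Opens := φ.left ⁻¹ᵁ V
  have hW : (W : Set X.left) = D := hpre
  have hηW : η ∈ W := hW.ge hηD
  -- glue
  choose U hxU hηU s hs hUD using hloc
  let U' : D → X.left.Opens := fun x => U x.1 x.2
  have hcompat : TopCat.Presheaf.IsCompatible X.left.presheaf U' fun x : D => s x.1 x.2 := fun x y => by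
    refine germ_injective_of_isIntegral X.left η (U := U' x ⊓ U' y) ⟨hηU x.1 x.2, hηU y.1 y.2⟩ ?_
    rw [TopCat.Presheaf.germ_res_apply, TopCat.Presheaf.germ_res_apply, hs, hs]
  have hWU : W ≤ iSup U' := fun x hx =>
    TopologicalSpace.Opens.mem_iSup.2 ⟨⟨x, hW.le hx⟩, hxU _ _⟩
  have hUW : ∀ x, U' x ≤ W := fun x y hy => hW.ge (hUD _ _ hy)
  obtain ⟨t, ht, -⟩ := TopCat.Sheaf.existsUnique_gluing' X.left.sheaf U' W (fun x => homOfLE (hUW x)) hWU
    (fun x : D => s x.1 x.2) hcompat
  have htη : X.left.presheaf.germ W η hηW t = f := by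
    rw [← hs η hηD, ← ht ⟨η, hηD⟩]
    exact (TopCat.Presheaf.germ_res_apply _ _ _ _ _).symm
  have hinv : GIT.IsInvSection a φ V t := by
    refine TopCat.Presheaf.section_ext (G ⊗ X).left.sheaf _ _ _ fun w hw => eq_of_forall_isGen _ _ ?_
    intro w₀ hw₀ hgen
    have hmem : w₀ ∈ a.act.left ⁻¹ᵁ W ⊓ (snd G X).left ⁻¹ᵁ W := hw₀.mem_open (TopologicalSpace.Opens.isOpen _) hw
    simp only [Scheme.Hom.appLE, CommRingCat.comp_apply]
    erw [TopCat.Presheaf.germ_stalkSpecializes_apply, TopCat.Presheaf.germ_stalkSpecializes_apply,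
      TopCat.Presheaf.germ_res_apply, TopCat.Presheaf.germ_res_apply]
    rw [← gmap_germ a.act.left w₀ (hgen.map_eq _) W hηW t, ← gmap_germ (snd G X).left w₀ (hgen.map_eq _) W hηW t,
      htη]
    exact (hf w₀ _ _ hgen).symm
  obtain ⟨t₀, ht₀⟩ : t ∈ Set.range (φ.left.app V) := by rw [(hφ.sections V).2]; exact hinv
  refine ⟨Y.left.presheaf.germ V (φ.left η) ⟨η, hηD, rfl⟩ t₀, ?_⟩
  rw [Scheme.Hom.germ_stalkMap_apply, ht₀, htη]

/-- The function field of `X` is separable over that of the quotient (Mac Lane's criterion). -/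
theorem formallySmooth_stalkMap_genericPoint (hφ : GIT.IsGeomQuot a φ)
    (hy : IsField (Y.left.presheaf.stalk (φ.left (genericPoint X.left)))) :
    (φ.left.stalkMap (genericPoint X.left)).hom.FormallySmooth := by
  haveI : Smooth (snd G X).left := smooth_snd
  haveI : Smooth a.act.left := AlgGrpLib.act_of_hom a @Smooth inferInstance
  haveI : IsReduced (G ⊗ X).left := AbSchLib.isReduced_of_smooth (snd G X).left
  let E : Type u := Y.left.presheaf.stalk (φ.left (genericPoint X.left))
  letI : Field E := hy.toField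
  let F : Type u := X.left.functionField
  letI : Algebra E F := (φ.left.stalkMap (genericPoint X.left)).hom.toAlgebra
  show Algebra.FormallySmooth E F
  rw [EGA41Lib.formallySmooth_iff_isGeometricallyReduced_field]
  obtain _ | ⟨p, hp, hpE⟩ := CharP.exists' E
  · exact EGA41Lib.isGeometricallyReduced_of_charZero E F
  haveI := hp
  haveI : CharP F p := charP_of_injective_algebraMap (algebraMap E F).injective p
  refine EGA41Lib.PB.isGeometricallyReduced_of_macLane p ?_
  let I := {w₀ : ↥(G ⊗ X).left // IsGen w₀}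
  letI : ∀ i : I, Field ((G ⊗ X).left.presheaf.stalk i.1) := fun i => (isField_stalk_of_isGen i.2).toField
  refine @macLane_of_equalizer p hp E F ‹Field E› _ ‹Algebra E F› ‹CharP F p› I (fun i => (G ⊗ X).left.presheaf.stalk i.1) _
    (fun i => (gmap (snd G X).left i.1 (i.2.map_eq _)).hom) (fun i => (gmap a.act.left i.1 (i.2.map_eq _)).hom)
    ?_ ?_ ?_
  · intro i
    letI : Algebra F ((G ⊗ X).left.presheaf.stalk i.1) := (gmap (snd G X).left i.1 (i.2.map_eq _)).hom.toAlgebra
    rw [← EGA41Lib.formallySmooth_iff_isGeometricallyReduced_field]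
    exact formallySmooth_gmap (snd G X).left i.1 _
  · intro i e
    obtain ⟨V, hV, t, rfl⟩ := Y.left.presheaf.exists_germ_eq e
    have he : algebraMap E F (Y.left.presheaf.germ V _ hV t) =
        X.left.presheaf.germ (φ.left ⁻¹ᵁ V) (genericPoint X.left) hV (φ.left.app V t) :=
      Scheme.Hom.germ_stalkMap_apply φ.left V (genericPoint X.left) hV t
    rw [he]
    refine (gmap_germ _ _ _ _ _ _).trans (Eq.trans ?_ (gmap_germ _ _ _ _ _ _).symm)
    exact (germ_app_congr (hφ.inv.left) V i.1 _ _ t).symm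
  · exact fun f hf => exists_eq_stalkMap_of_invariant hφ f fun w₀ _ _ hgen => hf ⟨w₀, hgen⟩

end Quot

end Groth.Agent.GenSmooth29
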